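import Mathlib

/-! Two extensions of the same algebra: their naive cotangent complexes are homotopy equivalent. -/

set_option autoImplicit false
set_option linter.style.haveILetI false

universe u v w

open Algebra TensorProduct KaehlerDifferential

namespace Groth.Agent.CotHtpy

variable {R : Type u} {S : Type v} [CommRing R] [CommRing S] [Algebra R S]

theorem nonempty_prod_equiv {P P' : Extension.{w} R S} (f : P.Hom P') (g : P'.Hom P) :
    Nonempty ((P.Cotangent × P'.CotangentSpace) ≃ₗ[S] (P'.Cotangent × P.CotangentSpace)) := by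
  let fC : P.Cotangent →ₗ[S] P'.Cotangent := Extension.Cotangent.map f
  let gC : P'.Cotangent →ₗ[S] P.Cotangent := Extension.Cotangent.map g
  let fF : P.CotangentSpace →ₗ[S] P'.CotangentSpace := Extension.CotangentSpace.map f
  let gF : P'.CotangentSpace →ₗ[S] P.CotangentSpace := Extension.CotangentSpace.map g
  let d := P.cotangentComplex
  let d' := P'.cotangentComplex
  let k : P.CotangentSpace →ₗ[S] P.Cotangent := (g.comp f).sub (Extension.Hom.id P)
  let k' : P'.CotangentSpace →ₗ[S] P'.Cotangent := - (f.comp g).sub (Extension.Hom.id P')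
  have nat1 : ∀ c, d' (fC c) = fF (d c) := fun c => (Extension.CotangentSpace.map_cotangentComplex f c).symm
  have nat2 : ∀ c, d (gC c) = gF (d' c) := fun c => (Extension.CotangentSpace.map_cotangentComplex g c).symm
  have hC : ∀ c, gC (fC c) - k (d c) = c := by
    intro c
    have h := LinearMap.congr_fun (Extension.Cotangent.map_sub_map (g.comp f) (Extension.Hom.id P)) c
    rw [Extension.Cotangent.map_comp, Extension.Cotangent.map_id] at h
    simp only [LinearMap.sub_apply, LinearMap.comp_apply, LinearMap.coe_restrictScalars,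
      LinearMap.id_apply] at h
    change gC (fC c) - c = k (d c) at h
    rw [← h, sub_sub_cancel]
  have hC' : ∀ c, fC (gC c) + k' (d' c) = c := by
    intro c
    have h := LinearMap.congr_fun (Extension.Cotangent.map_sub_map (f.comp g) (Extension.Hom.id P')) c
    rw [Extension.Cotangent.map_comp, Extension.Cotangent.map_id] at h
    simp only [LinearMap.sub_apply, LinearMap.comp_apply, LinearMap.coe_restrictScalars,
      LinearMap.id_apply] at h
    change fC (gC c) - c = (f.comp g).sub (Extension.Hom.id P') (d' c) at h
    simp only [k', LinearMap.neg_apply]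
    rw [← h]
    abel
  have hF : ∀ x, gF (fF x) - d (k x) = x := by
    intro x
    have h := LinearMap.congr_fun (Extension.CotangentSpace.map_sub_map (g.comp f) (Extension.Hom.id P)) x
    rw [Extension.CotangentSpace.map_comp, Extension.CotangentSpace.map_id] at h
    simp only [LinearMap.sub_apply, LinearMap.comp_apply, LinearMap.coe_restrictScalars,
      LinearMap.id_apply] at h
    change gF (fF x) - x = d (k x) at h
    rw [← h, sub_sub_cancel]
  have hF' : ∀ x, fF (gF x) + d' (k' x) = x := by
    intro x
    have h := LinearMap.congr_fun (Extension.CotangentSpace.map_sub_map (f.comp g) (Extension.Hom.id P')) x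
    rw [Extension.CotangentSpace.map_comp, Extension.CotangentSpace.map_id] at h
    simp only [LinearMap.sub_apply, LinearMap.comp_apply, LinearMap.coe_restrictScalars,
      LinearMap.id_apply] at h
    change fF (gF x) - x = d' ((f.comp g).sub (Extension.Hom.id P') x) at h
    simp only [k', LinearMap.neg_apply, map_neg]
    rw [← h]
    abel
  let Φ : (P'.Cotangent × P.CotangentSpace) →ₗ[S] (P.Cotangent × P'.CotangentSpace) :=
    LinearMap.prod (gC.coprod k) (d'.coprod fF)
  let Ψ : (P.Cotangent × P'.CotangentSpace) →ₗ[S] (P'.Cotangent × P.CotangentSpace) :=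
    LinearMap.prod (fC.coprod k') ((-d).coprod gF)
  have h1 : ∀ z, Φ (Ψ z) = (z.1 + (gC (k' z.2) + k (gF z.2)), z.2) := by
    rintro ⟨c, y⟩
    simp only [Φ, Ψ, LinearMap.prod_apply, Function.prod_apply, LinearMap.coprod_apply, LinearMap.neg_apply, map_add,
      map_neg, nat1, Prod.mk.injEq]
    constructor
    · conv_rhs => arg 1; rw [← hC c]
      abel
    · conv_rhs => rw [← hF' y]
      abel
  have h2 : ∀ z, Ψ (Φ z) = (z.1 + (fC (k z.2) + k' (fF z.2)), z.2) := by
    rintro ⟨c, x⟩
    simp only [Φ, Ψ, LinearMap.prod_apply, Function.prod_apply, LinearMap.coprod_apply, LinearMap.neg_apply, map_add,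
      nat2, Prod.mk.injEq]
    constructor
    · conv_rhs => arg 1; rw [← hC' c]
      abel
    · conv_rhs => rw [← hF x]
      abel
  refine ⟨LinearEquiv.ofBijective Ψ ⟨?_, ?_⟩⟩
  · intro z w h
    have h3 := congrArg Φ h
    rw [h1, h1, Prod.ext_iff] at h3
    obtain ⟨ha, hb⟩ := h3
    dsimp only at ha hb
    rw [hb, add_left_inj] at ha
    exact Prod.ext ha hb
  · intro z
    refine ⟨Φ (z.1 - (fC (k z.2) + k' (fF z.2)), z.2), ?_⟩
    rw [h2]
    simp

/-- The cotangent space of a presentation by a polynomial ring. -/
theorem nonempty_cotangentSpace_equiv {n : ℕ} (α : MvPolynomial (Fin n) R →ₐ[R] S) (hα : Function.Surjective α) :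
    Nonempty ((Extension.ofSurjective α hα).CotangentSpace ≃ₗ[S] (Fin n → S)) := by
  letI : Algebra (MvPolynomial (Fin n) R) S := α.toAlgebra
  exact ⟨((KaehlerDifferential.mvPolynomialBasis R (Fin n)).baseChange S).equivFun⟩

/-- A map of extensions out of a polynomial presentation. -/
theorem nonempty_hom {n : ℕ} (α : MvPolynomial (Fin n) R →ₐ[R] S) (hα : Function.Surjective α)
    {P : Type u} [CommRing P] [Algebra R P] (π : P →ₐ[R] S) (hπ : Function.Surjective π) :
    ∃ t : MvPolynomial (Fin n) R →ₐ[R] P, π.comp t = α := by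
  choose y hy using fun i => hπ (α (MvPolynomial.X i))
  exact ⟨MvPolynomial.aeval y, MvPolynomial.algHom_ext fun i => by simp [hy]⟩

end Groth.Agent.CotHtpy
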