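import Mathlib
import Groth.Agent.CotHtpy.Basic

/-! The localization of a polynomial presentation. -/

set_option autoImplicit false
set_option linter.style.haveILetI false

universe u

open Algebra TensorProduct KaehlerDifferential

namespace Groth.Agent.CotHtpy

attribute [local instance] SMulCommClass.of_commMonoid

/-- The localization of an ideal. -/
theorem isBaseChange_ideal {A L : Type u} [CommRing A] [CommRing L] [Algebra A L] (N : Submonoid A)
    [IsLocalization N L] (J : Ideal A) (K : Ideal L) (F : J →ₗ[A] K)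
    (hF : ∀ x, (F x : L) = algebraMap A L (x : A))
    (hK : ∀ (a : A) (s : N), IsLocalization.mk' L a s ∈ K → ∃ t ∈ N, t * a ∈ J) :
    IsBaseChange L F := by
  refine (isLocalizedModule_iff_isBaseChange N L F).mp ⟨fun s => ?_, fun z => ?_, fun {x y} h => ?_⟩
  · rw [Module.End.isUnit_iff]
    obtain ⟨u, hu⟩ := IsLocalization.map_units L s
    constructor
    · intro x y h
      refine Subtype.ext (u.isUnit.mul_left_cancel ?_)
      have h' : (algebraMap A (Module.End A K) s x : L) = algebraMap A (Module.End A K) s y := congrArg Subtype.val h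
      rw [Module.algebraMap_end_apply, Module.algebraMap_end_apply] at h'
      simpa [hu, Algebra.smul_def] using h'
    · intro y
      refine ⟨(↑u⁻¹ : L) • y, Subtype.ext ?_⟩
      rw [Module.algebraMap_end_apply]
      change (s : A) • ((↑u⁻¹ : L) * (y : L)) = y
      rw [Algebra.smul_def, ← hu]
      rw [← mul_assoc, Units.mul_inv, one_mul]
  · obtain ⟨a, s, has⟩ := IsLocalization.exists_mk'_eq N (z : L)
    obtain ⟨t, ht, hta⟩ := hK a s (has ▸ z.2)
    refine ⟨(⟨t * a, hta⟩, ⟨t, ht⟩ * s), Subtype.ext ?_⟩
    rw [hF, Submonoid.smul_def, Submodule.coe_smul_of_tower, Algebra.smul_def, ← has]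
    change algebraMap A L (t * (s : A)) * _ = _
    rw [map_mul, mul_assoc, IsLocalization.mk'_spec', ← map_mul]
  · have h' : algebraMap A L (x : A) = algebraMap A L (y : A) := by rw [← hF, ← hF, h]
    obtain ⟨c, hc⟩ := IsLocalization.exists_of_eq (M := N) h'
    exact ⟨c, Subtype.ext hc⟩

variable {R S T : Type u} [CommRing R] [CommRing S] [CommRing T] [Algebra R S] [Algebra R T] [Algebra S T]
  [IsScalarTower R S T] (M : Submonoid S) [IsLocalization M T] {n : ℕ}
  (α : MvPolynomial (Fin n) R →ₐ[R] S) (hα : Function.Surjective α)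

/-- The ring of the localized presentation. -/
abbrev LocRing : Type u := Localization (M.comap α.toRingHom)

/-- The map of the localized presentation. -/
noncomputable def locMap : LocRing M α →ₐ[R] T :=
  IsLocalization.liftAlgHom (M := M.comap α.toRingHom) (f := (IsScalarTower.toAlgHom R S T).comp α)
    (fun y => IsLocalization.map_units T (⟨α y, y.2⟩ : M))

theorem locMap_algebraMap (x : MvPolynomial (Fin n) R) :
    locMap (T := T) M α (algebraMap _ (LocRing M α) x) = algebraMap S T (α x) :=
  IsLocalization.lift_eq _ x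

include hα in
theorem locMap_surjective : Function.Surjective (locMap (T := T) M α) := by
  intro t
  obtain ⟨x, ⟨s, hs⟩, rfl⟩ := IsLocalization.exists_mk'_eq M t
  obtain ⟨x, rfl⟩ := hα x
  obtain ⟨s, rfl⟩ := hα s
  refine ⟨IsLocalization.mk' _ x (⟨s, hs⟩ : M.comap α.toRingHom), ?_⟩
  rw [IsLocalization.eq_mk'_iff_mul_eq]
  have h : locMap (T := T) M α (IsLocalization.mk' _ x (⟨s, hs⟩ : M.comap α.toRingHom)) *
      locMap (T := T) M α (algebraMap _ (LocRing M α) s) = locMap (T := T) M α (algebraMap _ (LocRing M α) x) := by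
    rw [← map_mul, IsLocalization.mk'_spec (LocRing M α) x (⟨s, hs⟩ : M.comap α.toRingHom)]
  rw [locMap_algebraMap, locMap_algebraMap] at h
  exact h

theorem isUnit_of_isUnit_locMap (hM : ∀ s, IsUnit (algebraMap S T s) → s ∈ M) (x : LocRing M α)
    (h : IsUnit (locMap (T := T) M α x)) : IsUnit x := by
  obtain ⟨a, m, rfl⟩ := IsLocalization.exists_mk'_eq (M.comap α.toRingHom) x
  have h1 : IsUnit (algebraMap S T (α a)) := by
    rw [← locMap_algebraMap M α a, ← IsLocalization.mk'_spec (LocRing M α) a m, map_mul]
    refine h.mul ?_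
    rw [locMap_algebraMap]
    exact IsLocalization.map_units T (⟨α m, m.2⟩ : M)
  have h2 : IsUnit (algebraMap (MvPolynomial (Fin n) R) (LocRing M α) a) :=
    IsLocalization.map_units (LocRing M α) (⟨a, hM _ h1⟩ : M.comap α.toRingHom)
  rw [← IsLocalization.mk'_spec (LocRing M α) a m] at h2
  exact isUnit_of_mul_isUnit_left h2

/-- The cotangent complex of the localized presentation is the localized cotangent complex. -/
theorem nonempty_localized_equivs :
    Nonempty (T ⊗[S] (Extension.ofSurjective α hα).Cotangent ≃ₗ[T]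
        (Extension.ofSurjective (locMap (T := T) M α) (locMap_surjective M α hα)).Cotangent) ∧
      Nonempty ((Fin n → T) ≃ₗ[T]
        (Extension.ofSurjective (locMap (T := T) M α) (locMap_surjective M α hα)).CotangentSpace) := by
  obtain ⟨eF⟩ := nonempty_cotangentSpace_equiv α hα
  let P : Extension R S := Extension.ofSurjective α hα
  let fQ : LocRing M α →ₐ[R] T := locMap M α
  let Q : Extension R T := Extension.ofSurjective fQ (locMap_surjective M α hα)
  let f : P.Hom Q :=
    { toRingHom := algebraMap (MvPolynomial (Fin n) R) (LocRing M α)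
      toRingHom_algebraMap := fun x => (IsScalarTower.algebraMap_apply R (MvPolynomial (Fin n) R) (LocRing M α) x).symm
      algebraMap_toRingHom := fun x => locMap_algebraMap M α x }
  letI : Algebra P.Ring Q.Ring := (inferInstance : Algebra (MvPolynomial (Fin n) R) (LocRing M α))
  letI : Algebra P.Ring T := ((algebraMap S T).comp (algebraMap P.Ring S)).toAlgebra
  letI : Algebra (LocRing M α) T := fQ.toRingHom.toAlgebra
  letI : Algebra P.Ring (LocRing M α) := (inferInstance : Algebra (MvPolynomial (Fin n) R) (LocRing M α))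
  letI : Algebra (MvPolynomial (Fin n) R) T := ((algebraMap S T).comp (algebraMap P.Ring S)).toAlgebra
  haveI : IsLocalization (M.comap (algebraMap P.Ring S)) (LocRing M α) :=
    (inferInstance : IsLocalization (M.comap α.toRingHom) (LocRing M α))
  haveI : IsScalarTower P.Ring (LocRing M α) T := .of_algebraMap_eq fun r => (f.algebraMap_toRingHom r).symm
  haveI : IsScalarTower P.Ring S T := .of_algebraMap_eq' rfl
  haveI : IsScalarTower (MvPolynomial (Fin n) R) (LocRing M α) T :=
    .of_algebraMap_eq fun r => (f.algebraMap_toRingHom r).symm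
  haveI : IsLocalization (M.comap (algebraMap P.Ring S)) Q.Ring :=
    (inferInstance : IsLocalization (M.comap α.toRingHom) (LocRing M α))
  have h1 : f.toRingHom.FormallyEtale :=
    RingHom.formallyEtale_algebraMap.mpr
      (FormallyEtale.of_isLocalization (M := M.comap α.toRingHom) (Rₘ := LocRing M α))
  have h2 : Function.Bijective ((f.mapKer (alg := ‹Algebra P.Ring Q.Ring›) rfl).liftBaseChange Q.Ring) := by
    refine isBaseChange_ideal (M.comap (algebraMap P.Ring S)) P.ker Q.ker (f.mapKer rfl)
      (fun _ => rfl) (fun a m h => ?_)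
    have h0 : algebraMap S T (α a) = 0 := by
      have h' : algebraMap Q.Ring T (IsLocalization.mk' Q.Ring a m) = 0 := h
      have h'' : algebraMap Q.Ring T (algebraMap P.Ring Q.Ring a) = 0 := by
        rw [← IsLocalization.mk'_spec Q.Ring a m, map_mul, h', zero_mul]
      exact (locMap_algebraMap (T := T) M α a).symm.trans h''
    obtain ⟨⟨c, hc⟩, hc'⟩ := (IsLocalization.map_eq_zero_iff M T _).1 h0
    obtain ⟨t, rfl⟩ := hα c
    refine ⟨(show P.Ring from t), hc, ?_⟩
    change algebraMap P.Ring S ((show P.Ring from t) * a) = 0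
    rw [map_mul]
    exact hc'
  refine ⟨⟨Extension.tensorCotangent f rfl h2⟩, ⟨?_⟩⟩
  let e1 : (Fin n → T) ≃ₗ[T] T ⊗[S] (Fin n → S) := (TensorProduct.piScalarRight S T T (Fin n)).symm
  let e2 : T ⊗[S] (Fin n → S) ≃ₗ[T] T ⊗[S] P.CotangentSpace :=
    TensorProduct.AlgebraTensorModule.congr (LinearEquiv.refl T T) eF.symm
  let e3 : T ⊗[S] P.CotangentSpace ≃ₗ[T] Q.CotangentSpace := Extension.tensorCotangentSpaceOfFormallyEtale f h1
  exact e1.trans (e2.trans e3)

end Groth.Agent.CotHtpy
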